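import Groth.Agent.Lib.Dim.Basic
import Mathlib.RingTheory.Ideal.MinimalPrime.Noetherian
import Mathlib.RingTheory.Ideal.KrullsHeightTheorem

/-!
# Local dimension formulas for algebras of finite type over a field

`dimAt k P = height P + dim (A ⧸ P)`; it equals the maximum of `dim (A ⧸ q)` over the minimal primes
`q ⊆ P`, i.e. the local dimension of `Spec A` at `P`.
-/

set_option autoImplicit false

universe u v

namespace Groth.Agent.Lib.Dim.Local

open Groth.Agent.Lib.Dim.Basic

variable (k : Type u) [Field k] {A : Type v} [CommRing A] [Algebra k A]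

/-- `height P + dim (A ⧸ P)`, as a natural number. -/
noncomputable def dimAt (P : Ideal A) : ℕ := P.height.toNat + dimQ k P

variable [Algebra.FiniteType k A]

include k in
theorem isNoetherianRing_of_field : IsNoetherianRing A :=
  Algebra.FiniteType.isNoetherianRing k A

include k in
theorem height_ne_top (P : Ideal A) [P.IsPrime] : P.height ≠ ⊤ := by
  have := isNoetherianRing_of_field k (A := A)
  exact Ideal.height_ne_top_of_isPrime

include k in
theorem coe_height_toNat (P : Ideal A) [P.IsPrime] : (P.height.toNat : ℕ∞) = P.height :=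
  ENat.natCast_toNat_eq_self.mpr (height_ne_top k P)

theorem coe_dimAt (P : Ideal A) [P.IsPrime] :
    (dimAt k P : ℕ∞) = P.height + (dimQ k P : ℕ∞) := by
  rw [dimAt, Nat.cast_add, coe_height_toNat k P]

theorem dimQ_le_dimAt_of_le {q P : Ideal A} [q.IsPrime] [P.IsPrime] (h : q ≤ P) :
    dimQ k q ≤ dimAt k P := by
  set P' := P.map (Ideal.Quotient.mk q) with hP'
  have hP'p : P'.IsPrime := Ideal.map_isPrime_of_surjective Ideal.Quotient.mk_surjective
    (Ideal.mk_ker.le.trans h)
  have h1 := height_add_dimQ k P'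
  have h2 : ringKrullDim ((A ⧸ q) ⧸ P') = ringKrullDim (A ⧸ P) :=
    ringKrullDim_eq_of_ringEquiv (DoubleQuot.quotQuotEquivQuotOfLE h)
  rw [ringKrullDim_quotient_prime k, ringKrullDim_quotient_prime k] at h2
  have h3 : dimQ k P' = dimQ k P := by exact_mod_cast h2
  have hcomap : P'.comap (Ideal.Quotient.mk q) = P := by
    rw [hP', Ideal.comap_map_of_surjective _ Ideal.Quotient.mk_surjective]
    exact sup_eq_left.mpr ((Ideal.mk_ker (I := q)).le.trans h)
  have h4 : P'.height ≤ P.height := by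
    rw [PrimeSpectrum.height_eq_orderHeight ⟨P', hP'p⟩,
      PrimeSpectrum.height_eq_orderHeight ⟨P, inferInstance⟩]
    refine le_of_le_of_eq (Order.height_le_height_apply_of_strictMono
      (PrimeSpectrum.comap (Ideal.Quotient.mk q)) (fun a b hab => ?_) ⟨P', hP'p⟩)
      (congrArg _ (PrimeSpectrum.ext hcomap))
    exact lt_of_le_of_ne (Ideal.comap_mono hab.le) fun he => hab.ne
      (PrimeSpectrum.comap_injective_of_surjective _ Ideal.Quotient.mk_surjective he)
  rw [h3] at h1
  have h5 : (dimQ k q : ℕ∞) ≤ (dimAt k P : ℕ∞) := by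
    rw [coe_dimAt]
    exact h1.symm.le.trans (add_le_add h4 le_rfl)
  exact_mod_cast h5

theorem exists_minimalPrimes_dimAt_eq (P : Ideal A) [P.IsPrime] :
    ∃ q ∈ minimalPrimes A, q ≤ P ∧ dimQ k q = dimAt k P := by
  have := isNoetherianRing_of_field k (A := A)
  obtain ⟨l, hl, hlen⟩ := P.exists_ltSeries_length_eq_height
  obtain ⟨q, hq, hqle⟩ := Ideal.exists_minimalPrimes_le (bot_le (a := l.head.asIdeal))
  have hqp : q.IsPrime := hq.1.1
  have hqP : q ≤ P := by
    refine hqle.trans ?_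
    rw [show P = l.last.asIdeal by rw [hl]]
    exact l.head_le_last
  refine ⟨q, hq, hqP, le_antisymm (dimQ_le_dimAt_of_le k hqP) ?_⟩
  have h1 := length_add_dimQ_le k l
  have h2 : dimQ k l.head.asIdeal ≤ dimQ k q := dimQ_anti k hqle
  rw [hl] at h1
  have h3 : P.height.toNat = l.length := by rw [← hlen]; rfl
  have h1' : l.length + dimQ k P ≤ dimQ k l.head.asIdeal := h1
  rw [dimAt, h3]
  omega

theorem dimAt_le_iff (P : Ideal A) [P.IsPrime] (n : ℕ) :
    dimAt k P ≤ n ↔ ∀ q ∈ minimalPrimes A, q ≤ P → dimQ k q ≤ n := by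
  refine ⟨fun h q hq hle => ?_, fun h => ?_⟩
  · have : q.IsPrime := hq.1.1
    exact (dimQ_le_dimAt_of_le k hle).trans h
  · obtain ⟨q, hq, hle, he⟩ := exists_minimalPrimes_dimAt_eq k P
    exact he ▸ h q hq hle

theorem dimAt_mono {P P' : Ideal A} [P.IsPrime] [P'.IsPrime] (h : P ≤ P') :
    dimAt k P ≤ dimAt k P' :=
  (dimAt_le_iff k P _).mpr fun q hq hle => by
    have : q.IsPrime := hq.1.1
    exact dimQ_le_dimAt_of_le k (hle.trans h)

theorem height_maximal_eq_dimAt (m : Ideal A) [m.IsMaximal] : m.height = (dimAt k m : ℕ∞) := by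
  simp [coe_dimAt, dimQ_eq_zero_of_isMaximal k m]

theorem height_maximal [IsDomain A] (m : Ideal A) [m.IsMaximal] :
    m.height = (trdegNat k A : ℕ∞) := by
  simpa [dimQ_eq_zero_of_isMaximal k m] using height_add_dimQ k m

include k in
theorem exists_isMaximal_ge_notMem (P : Ideal A) [P.IsPrime] {g : A} (hg : g ∉ P) :
    ∃ m : Ideal A, m.IsMaximal ∧ P ≤ m ∧ g ∉ m := by
  have hJ : IsJacobsonRing A := isJacobsonRing_of_finiteType (A := k)
  by_contra! h
  apply hg
  rw [← IsJacobsonRing.out hJ (Ideal.IsPrime.isRadical ‹P.IsPrime›)]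
  exact Ideal.mem_sInf.mpr fun {m} hm => h m hm.2 hm.1

theorem ringKrullDim_localization (P : Ideal A) [P.IsPrime] :
    ringKrullDim (Localization.AtPrime P) + (dimQ k P : WithBot ℕ∞) = (dimAt k P : WithBot ℕ∞) := by
  rw [IsLocalization.AtPrime.ringKrullDim_eq_height P]
  exact_mod_cast (coe_dimAt k P).symm

theorem dimQ_le_ringKrullDim (P : Ideal A) [P.IsPrime] :
    (dimQ k P : WithBot ℕ∞) ≤ ringKrullDim A :=
  ringKrullDim_quotient_prime k P ▸ ringKrullDim_quotient_le P

theorem ringKrullDim_le_iff (n : ℕ) :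
    ringKrullDim A ≤ n ↔ ∀ q ∈ minimalPrimes A, dimQ k q ≤ n := by
  refine ⟨fun h q hq => ?_, fun h => ?_⟩
  · have : q.IsPrime := hq.1.1
    exact_mod_cast (dimQ_le_ringKrullDim k q).trans h
  · rw [ringKrullDim_le_iff_isMaximal_height_le]
    intro m hm
    rw [height_maximal_eq_dimAt k m]
    exact_mod_cast (dimAt_le_iff k m n).mpr fun q hq _ => h q hq

theorem exists_ringKrullDim_eq_dimQ [Nontrivial A] :
    ∃ q ∈ minimalPrimes A, ringKrullDim A = (dimQ k q : WithBot ℕ∞) ∧
      ∀ q' ∈ minimalPrimes A, dimQ k q' ≤ dimQ k q := by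
  have := isNoetherianRing_of_field k (A := A)
  have hfin := minimalPrimes.finite_of_isNoetherianRing A
  obtain ⟨m, hm⟩ := Ideal.exists_maximal A
  obtain ⟨q₀, hq₀, -⟩ := Ideal.exists_minimalPrimes_le (bot_le (a := m))
  obtain ⟨q, hq, hmax⟩ := Set.exists_max_image (minimalPrimes A) (dimQ k) hfin ⟨q₀, hq₀⟩
  have : q.IsPrime := hq.1.1
  exact ⟨q, hq, le_antisymm ((ringKrullDim_le_iff k _).mpr hmax) (dimQ_le_ringKrullDim k q), hmax⟩

end Groth.Agent.Lib.Dim.Local
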