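import Mathlib.RingTheory.Ideal.GoingUp
import Mathlib.RingTheory.Ideal.HasGoingUp
import Mathlib.RingTheory.Ideal.GoingDown
import Mathlib.RingTheory.Ideal.Height
import Mathlib.RingTheory.KrullDimension.Basic

/-!
# Krull dimension and integral extensions
-/

set_option autoImplicit false

universe u v

namespace Groth.Agent.Lib.Dim.Integral

variable {R : Type u} {A : Type v} [CommRing R] [CommRing A] [Algebra R A]

theorem comap_strictMono [Algebra.IsIntegral R A] :
    StrictMono (PrimeSpectrum.comap (algebraMap R A)) := by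
  intro P Q h
  exact Ideal.IsIntegral.comap_lt_comap h

theorem height_le_height_under [Algebra.IsIntegral R A] (P : Ideal A) [P.IsPrime] :
    P.height ≤ (P.under R).height := by
  rw [PrimeSpectrum.height_eq_orderHeight ⟨P, inferInstance⟩,
    PrimeSpectrum.height_eq_orderHeight ⟨P.under R, inferInstance⟩]
  exact Order.height_le_height_apply_of_strictMono
    (PrimeSpectrum.comap (algebraMap R A)) comap_strictMono ⟨P, inferInstance⟩

theorem ringKrullDim_le_of_isIntegral [Algebra.IsIntegral R A] :
    ringKrullDim A ≤ ringKrullDim R :=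
  Order.krullDim_le_of_strictMono _ comap_strictMono

theorem ringKrullDim_eq_of_isIntegral [Algebra.IsIntegral R A] [FaithfulSMul R A] :
    ringKrullDim A = ringKrullDim R := by
  refine le_antisymm ringKrullDim_le_of_isIntegral ?_
  refine iSup_le fun l => ?_
  obtain ⟨P, hP, hPo⟩ := Ideal.nonempty_primesOver (S := A) (RelSeries.head l).asIdeal |>.some
  obtain ⟨L, hL, -, -⟩ := Ideal.exists_ltSeries_of_hasGoingUp l P
  rw [← hL]
  exact le_iSup (fun p : LTSeries (PrimeSpectrum A) => ((p.length : ℕ∞) : WithBot ℕ∞)) L

theorem height_eq_height_under [Algebra.IsIntegral R A] [Algebra.HasGoingDown R A]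
    (P : Ideal A) [P.IsPrime] : P.height = (P.under R).height := by
  refine le_antisymm (height_le_height_under P) ?_
  rw [PrimeSpectrum.height_eq_orderHeight ⟨P, inferInstance⟩,
    PrimeSpectrum.height_eq_orderHeight ⟨P.under R, inferInstance⟩]
  refine Order.height_le fun l hl => ?_
  haveI : P.LiesOver (RelSeries.last l).asIdeal := ⟨by rw [hl]⟩
  obtain ⟨L, hL, hlast, -⟩ := Ideal.exists_ltSeries_of_hasGoingDown l P
  rw [← hL]
  exact Order.length_le_height (le_of_eq hlast)

/-- Dimension of `A ⧸ P` equals that of `R ⧸ (P ∩ R)` for an integral extension. -/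
theorem ringKrullDim_quotient_eq_under [Algebra.IsIntegral R A] (P : Ideal A) :
    ringKrullDim (A ⧸ P) = ringKrullDim (R ⧸ P.under R) := by
  have : FaithfulSMul (R ⧸ P.under R) (A ⧸ P) :=
    (faithfulSMul_iff_algebraMap_injective _ _).mpr
      (Ideal.quotientMap_injective' (f := algebraMap R A) le_rfl)
  exact ringKrullDim_eq_of_isIntegral

end Groth.Agent.Lib.Dim.Integral
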