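import Groth.Agent.Lib.Dim.Integral
import Mathlib.RingTheory.NoetherNormalization
import Mathlib.RingTheory.KrullDimension.Polynomial
import Mathlib.RingTheory.KrullDimension.NonZeroDivisors
import Mathlib.RingTheory.KrullDimension.Field
import Mathlib.RingTheory.AlgebraicIndependent.TranscendenceBasis
import Mathlib.RingTheory.AlgebraicIndependent.Transcendental
import Mathlib.RingTheory.IntegralClosure.GoingDown
import Mathlib.RingTheory.Polynomial.UniqueFactorization
import Mathlib.RingTheory.UniqueFactorizationDomain.Ideal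
import Mathlib.RingTheory.Polynomial.Basic
import Mathlib.RingTheory.Jacobson.Ring
import Mathlib.Algebra.MvPolynomial.Degrees
import Mathlib.Algebra.MvPolynomial.Variables
import Mathlib.Algebra.MvPolynomial.NoZeroDivisors
import Mathlib.RingTheory.Localization.Integral
import Mathlib.RingTheory.Polynomial.RationalRoot

/-!
# Dimension theory of algebras of finite type over a field

For a finite type algebra `A` over a field `k` and a prime `P` we write `dimQ k P` for the natural
number `dim (A ⧸ P) = trdeg_k (A ⧸ P)`.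
-/

set_option autoImplicit false

universe u v

namespace Groth.Agent.Lib.Dim.Basic

open Cardinal

variable (k : Type u) [Field k]

/-- The transcendence degree as a natural number. -/
noncomputable def trdegNat (A : Type v) [CommRing A] [Algebra k A] : ℕ :=
  Cardinal.toNat (Algebra.trdeg k A)

/-- Noether normalisation with the dimension and transcendence degree computed. -/
theorem exists_noether (A : Type v) [CommRing A] [IsDomain A] [Algebra k A]
    [Algebra.FiniteType k A] :
    ∃ (s : ℕ) (g : MvPolynomial (Fin s) k →ₐ[k] A), Function.Injective g ∧ g.Finite ∧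
      Algebra.trdeg k A = (s : Cardinal) ∧ ringKrullDim A = (s : WithBot ℕ∞) := by
  obtain ⟨s, g, hg, hfin⟩ := exists_finite_inj_algHom_of_fg k A
  refine ⟨s, g, hg, hfin, ?_, ?_⟩
  · letI := g.toRingHom.toAlgebra
    haveI : IsScalarTower k (MvPolynomial (Fin s) k) A :=
      IsScalarTower.of_algebraMap_eq fun x => (g.commutes x).symm
    haveI : FaithfulSMul (MvPolynomial (Fin s) k) A :=
      (faithfulSMul_iff_algebraMap_injective _ _).mpr hg
    haveI : Module.Finite (MvPolynomial (Fin s) k) A := hfin
    haveI : Algebra.IsAlgebraic (MvPolynomial (Fin s) k) A := inferInstance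
    have h := lift_trdeg_add_eq k (MvPolynomial (Fin s) k) A
    rw [MvPolynomial.trdeg_of_isDomain, trdeg_eq_zero, Cardinal.lift_zero, add_zero] at h
    simpa using h.symm
  · letI := g.toRingHom.toAlgebra
    haveI : FaithfulSMul (MvPolynomial (Fin s) k) A :=
      (faithfulSMul_iff_algebraMap_injective _ _).mpr hg
    haveI : Module.Finite (MvPolynomial (Fin s) k) A := hfin
    rw [Integral.ringKrullDim_eq_of_isIntegral (R := MvPolynomial (Fin s) k)]
    simp [MvPolynomial.ringKrullDim_of_isNoetherianRing]

theorem trdeg_eq_trdegNat (A : Type v) [CommRing A] [IsDomain A] [Algebra k A]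
    [Algebra.FiniteType k A] : Algebra.trdeg k A = (trdegNat k A : Cardinal) := by
  obtain ⟨s, g, -, -, h, -⟩ := exists_noether k A
  simp [trdegNat, h]

/-- For a domain of finite type over a field, Krull dimension equals transcendence degree. -/
theorem ringKrullDim_eq_trdegNat (A : Type v) [CommRing A] [IsDomain A] [Algebra k A]
    [Algebra.FiniteType k A] : ringKrullDim A = (trdegNat k A : WithBot ℕ∞) := by
  obtain ⟨s, g, -, -, h, hd⟩ := exists_noether k A
  simp [trdegNat, h, hd]

theorem ringKrullDim_mvPolynomial (σ : Type v) [Finite σ] :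
    ringKrullDim (MvPolynomial σ k) = (Nat.card σ : WithBot ℕ∞) := by
  simp [MvPolynomial.ringKrullDim_of_isNoetherianRing]

/-- A nonzero principal prime of a polynomial ring has quotient of codimension one. -/
theorem ringKrullDim_quotient_span_prime (n : ℕ) (f : MvPolynomial (Fin n) k) (hf : Prime f) :
    ringKrullDim (MvPolynomial (Fin n) k ⧸ Ideal.span {f}) + 1 = (n : WithBot ℕ∞) := by
  refine le_antisymm ?_ ?_
  · refine (ringKrullDim_quotient_succ_le_of_nonZeroDivisor
      (mem_nonZeroDivisors_of_ne_zero hf.ne_zero)).trans ?_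
    simp [ringKrullDim_mvPolynomial]
  · haveI : (Ideal.span {f}).IsPrime := (Ideal.span_singleton_prime hf.ne_zero).mpr hf
    obtain ⟨i, hi⟩ : ∃ i, f.degreeOf i ≠ 0 := by
      by_contra! h
      have hC : f = MvPolynomial.C (MvPolynomial.coeff 0 f) := by
        refine MvPolynomial.ext _ _ fun m => ?_
        by_cases hm : m = 0
        · subst hm; simp
        rw [MvPolynomial.coeff_C, if_neg (Ne.symm hm)]
        by_contra hne
        obtain ⟨j, hj⟩ : ∃ j, j ∈ m.support := Finsupp.support_nonempty_iff.mpr hm
        have h1 := MvPolynomial.monomial_le_degreeOf j (MvPolynomial.mem_support_iff.mpr hne)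
        rw [h j, Nat.le_zero] at h1
        exact Finsupp.mem_support_iff.mp hj h1
      apply hf.not_unit
      rw [hC]
      refine IsUnit.map MvPolynomial.C (isUnit_iff_ne_zero.mpr fun h0 => hf.ne_zero ?_)
      rw [hC, h0, map_zero]
    have hind : AlgebraicIndependent k
        (fun j : {j : Fin n // j ≠ i} => Ideal.Quotient.mkₐ k (Ideal.span {f})
          (MvPolynomial.X (j : Fin n))) := by
      rw [algebraicIndependent_iff]
      intro p hp
      have hmem : MvPolynomial.rename Subtype.val p ∈ Ideal.span {f} := by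
        have hcomp : MvPolynomial.aeval (fun j : {j : Fin n // j ≠ i} =>
              Ideal.Quotient.mkₐ k (Ideal.span {f}) (MvPolynomial.X (j : Fin n))) =
            (Ideal.Quotient.mkₐ k (Ideal.span {f})).comp (MvPolynomial.rename Subtype.val) := by
          ext j; simp
        rw [hcomp, AlgHom.comp_apply] at hp
        exact Ideal.Quotient.eq_zero_iff_mem.mp hp
      obtain ⟨h, hh⟩ := Ideal.mem_span_singleton'.mp hmem
      by_cases h0 : h = 0
      · rw [h0, zero_mul] at hh
        exact MvPolynomial.rename_injective _ Subtype.val_injective (by simpa using hh.symm)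
      have h1 : (MvPolynomial.rename Subtype.val p).degreeOf i = 0 := by
        rw [← Nat.le_zero, MvPolynomial.degreeOf_le_iff]
        intro m hm
        rw [MvPolynomial.support_rename_of_injective Subtype.val_injective] at hm
        obtain ⟨m', -, rfl⟩ := Finset.mem_image.mp hm
        exact (Finsupp.mapDomain_notin_range m' i (fun ⟨j, hj⟩ => j.2 hj)).le
      rw [← hh, MvPolynomial.degreeOf_mul_eq h0 hf.ne_zero] at h1
      omega
    have h := hind.lift_cardinalMk_le_trdeg
    rw [trdeg_eq_trdegNat k] at h
    simp only [Cardinal.mk_fintype, Cardinal.lift_natCast, Nat.cast_le] at h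
    rw [ringKrullDim_eq_trdegNat k]
    have hc : Fintype.card {j : Fin n // j ≠ i} + 1 = n := by
      rw [Fintype.card_subtype_compl, Fintype.card_subtype_eq, Fintype.card_fin]
      have := i.pos
      omega
    have h2 : n ≤ trdegNat k (MvPolynomial (Fin n) k ⧸ Ideal.span {f}) + 1 := by omega
    exact_mod_cast h2

variable {A : Type v} [CommRing A] [Algebra k A]

/-- `dim (A ⧸ P) = trdeg_k (A ⧸ P)` as a natural number. -/
noncomputable def dimQ (P : Ideal A) : ℕ := trdegNat k (A ⧸ P)

variable [Algebra.FiniteType k A]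

theorem ringKrullDim_quotient_prime (P : Ideal A) [P.IsPrime] :
    ringKrullDim (A ⧸ P) = (dimQ k P : WithBot ℕ∞) :=
  ringKrullDim_eq_trdegNat k (A ⧸ P)

theorem trdeg_quotient (P : Ideal A) [P.IsPrime] :
    Algebra.trdeg k (A ⧸ P) = (dimQ k P : Cardinal) :=
  trdeg_eq_trdegNat k (A ⧸ P)

theorem trdeg_residueField (P : Ideal A) [P.IsPrime] :
    Algebra.trdeg k P.ResidueField = (dimQ k P : Cardinal) := by
  haveI : Algebra.IsAlgebraic (A ⧸ P) P.ResidueField :=
    IsLocalization.isAlgebraic _ (nonZeroDivisors (A ⧸ P))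
  have h := trdeg_add_eq k (A ⧸ P) (A := P.ResidueField)
  rw [trdeg_eq_zero (R := A ⧸ P), add_zero, trdeg_quotient] at h
  exact h.symm

theorem dimQ_eq_zero_of_isMaximal (P : Ideal A) [P.IsMaximal] : dimQ k P = 0 := by
  have h := ringKrullDim_quotient_prime k P
  rw [ringKrullDim_eq_zero_of_isField ((Ideal.Quotient.maximal_ideal_iff_isField_quotient P).mp ‹_›)]
    at h
  exact_mod_cast h.symm

theorem dimQ_lt_of_lt {P Q : Ideal A} [P.IsPrime] [Q.IsPrime] (h : P < Q) :
    dimQ k Q < dimQ k P := by
  obtain ⟨x, hxQ, hxP⟩ := SetLike.exists_of_lt h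
  have hx : Ideal.Quotient.mk P x ∈ nonZeroDivisors (A ⧸ P) :=
    mem_nonZeroDivisors_of_ne_zero (by rwa [Ne, Ideal.Quotient.eq_zero_iff_mem])
  have h1 := ringKrullDim_quotient_succ_le_of_nonZeroDivisor hx
  have hle : Ideal.span {Ideal.Quotient.mk P x} ≤ RingHom.ker (Ideal.Quotient.factor h.le) := by
    rw [Ideal.span_singleton_le_iff_mem, RingHom.mem_ker, Ideal.Quotient.factor_mk,
      Ideal.Quotient.eq_zero_iff_mem]
    exact hxQ
  have h2 : ringKrullDim (A ⧸ Q) ≤ ringKrullDim ((A ⧸ P) ⧸ Ideal.span {Ideal.Quotient.mk P x}) :=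
    ringKrullDim_le_of_surjective
      (Ideal.Quotient.lift _ (Ideal.Quotient.factor h.le) fun a ha => hle ha)
      (Ideal.Quotient.lift_surjective_of_surjective _ _ (Ideal.Quotient.factor_surjective h.le))
  have h3 := (add_le_add h2 le_rfl).trans h1
  rw [ringKrullDim_quotient_prime k, ringKrullDim_quotient_prime k] at h3
  have : dimQ k Q + 1 ≤ dimQ k P := by exact_mod_cast h3
  omega

theorem dimQ_anti {P Q : Ideal A} [P.IsPrime] [Q.IsPrime] (h : P ≤ Q) :
    dimQ k Q ≤ dimQ k P := by
  rcases h.eq_or_lt with rfl | h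
  · rfl
  · exact (dimQ_lt_of_lt k h).le

/-- A height one prime in a domain of finite type over a field has codimension one. -/
theorem dimQ_add_one_of_height_one [IsDomain A] (P : Ideal A) [P.IsPrime] (hP : P.height = 1) :
    dimQ k P + 1 = trdegNat k A := by
  obtain ⟨s, g, hg, hfin, htr, hdim⟩ := exists_noether k A
  letI := g.toRingHom.toAlgebra
  haveI : FaithfulSMul (MvPolynomial (Fin s) k) A :=
    (faithfulSMul_iff_algebraMap_injective _ _).mpr hg
  haveI : Module.Finite (MvPolynomial (Fin s) k) A := hfin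
  set p := P.under (MvPolynomial (Fin s) k) with hp
  have h1 : p.height = 1 := by rw [hp, ← Integral.height_eq_height_under, hP]
  obtain ⟨f, hfp, hf⟩ :=
    Ideal.IsPrime.exists_mem_prime_of_ne_bot (I := p) inferInstance (Ideal.ne_bot_of_height_eq_one h1)
  have hspan : p = Ideal.span {f} := Ideal.eq_span_singleton_of_height_eq_one h1 hfp hf
  have h2 := ringKrullDim_quotient_span_prime k s f hf
  rw [← hspan, hp, ← Integral.ringKrullDim_quotient_eq_under, ringKrullDim_quotient_prime k] at h2
  have h3 : dimQ k P + 1 = s := by exact_mod_cast h2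
  simpa [trdegNat, htr] using h3

/-- Across a covering of primes the dimension of the quotient drops by exactly one. -/
theorem dimQ_add_one_of_covBy {P Q : PrimeSpectrum A} (h : P ⋖ Q) :
    dimQ k Q.asIdeal + 1 = dimQ k P.asIdeal := by
  set Q' := Q.asIdeal.map (Ideal.Quotient.mk P.asIdeal) with hQ'
  have hle : P.asIdeal ≤ Q.asIdeal := h.le
  have hcomap : Q'.comap (Ideal.Quotient.mk P.asIdeal) = Q.asIdeal := by
    rw [hQ', Ideal.comap_map_of_surjective _ Ideal.Quotient.mk_surjective]
    exact sup_eq_left.mpr ((Ideal.mk_ker (I := P.asIdeal)).le.trans hle)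
  haveI : Q'.IsPrime := Ideal.map_isPrime_of_surjective Ideal.Quotient.mk_surjective
    (Ideal.mk_ker.le.trans hle)
  have hne : Q' ≠ ⊥ := by
    intro h0
    apply h.lt.ne
    apply PrimeSpectrum.ext
    rw [← hcomap, h0, ← RingHom.ker_eq_comap_bot, Ideal.mk_ker]
  have h1 : Q'.height = 1 := by
    refine le_antisymm (Ideal.height_le_iff.mpr fun q hq hlt => ?_) ?_
    · have hq0 : q = ⊥ := by
        by_contra hq0
        have hP : P < ⟨q.comap (Ideal.Quotient.mk P.asIdeal), inferInstance⟩ := by
          refine lt_of_le_of_ne (fun x hx => ?_) fun he => hq0 ?_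
          · simp [Ideal.Quotient.eq_zero_iff_mem.mpr hx]
          · rw [← Ideal.map_comap_of_surjective _ Ideal.Quotient.mk_surjective q,
              show q.comap (Ideal.Quotient.mk P.asIdeal) = P.asIdeal from
                (congrArg PrimeSpectrum.asIdeal he).symm, Ideal.map_quotient_self]
        refine h.2 hP ?_
        show q.comap _ < Q.asIdeal
        rw [← hcomap]
        refine lt_of_le_of_ne (Ideal.comap_mono hlt.le) fun he => hlt.ne ?_
        exact Ideal.comap_injective_of_surjective _ Ideal.Quotient.mk_surjective he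
      simp [hq0]
    · exact Order.one_le_iff_ne_zero.mpr (mt Ideal.height_eq_zero_iff_eq_bot.mp hne)
  have h2 := dimQ_add_one_of_height_one k Q' h1
  have h3 : ringKrullDim ((A ⧸ P.asIdeal) ⧸ Q') = ringKrullDim (A ⧸ Q.asIdeal) :=
    ringKrullDim_eq_of_ringEquiv (DoubleQuot.quotQuotEquivQuotOfLE hle)
  rw [ringKrullDim_quotient_prime k, ringKrullDim_quotient_prime k] at h3
  have h4 : dimQ k Q' = dimQ k Q.asIdeal := by exact_mod_cast h3
  rw [h4] at h2
  exact h2

/-- Along any chain of primes, `length + dimQ last ≤ dimQ head`. -/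
theorem length_add_dimQ_le (l : LTSeries (PrimeSpectrum A)) :
    l.length + dimQ k l.last.asIdeal ≤ dimQ k l.head.asIdeal := by
  have key : ∀ i : ℕ, (hi : i < l.length + 1) →
      i + dimQ k (l ⟨i, hi⟩).asIdeal ≤ dimQ k l.head.asIdeal := by
    intro i
    induction i with
    | zero => intro hi; simp [RelSeries.head]
    | succ i ih =>
      intro hi
      have h := ih (by omega)
      have h2 : (l ⟨i, by omega⟩).asIdeal < (l ⟨i + 1, hi⟩).asIdeal :=
        l.step ⟨i, by omega⟩
      have := dimQ_lt_of_lt k h2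
      omega
  exact key l.length (Nat.lt_succ_self _)

/-- Along a saturated chain of primes, `length + dimQ last = dimQ head`. -/
theorem length_add_dimQ_eq (l : LTSeries (PrimeSpectrum A))
    (hsat : ∀ i : Fin l.length, l (Fin.castSucc i) ⋖ l (Fin.succ i)) :
    l.length + dimQ k l.last.asIdeal = dimQ k l.head.asIdeal := by
  have key : ∀ i : ℕ, (hi : i < l.length + 1) →
      i + dimQ k (l ⟨i, hi⟩).asIdeal = dimQ k l.head.asIdeal := by
    intro i
    induction i with
    | zero => intro hi; simp [RelSeries.head]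
    | succ i ih =>
      intro hi
      have h := ih (by omega)
      have h2 : dimQ k (l ⟨i + 1, hi⟩).asIdeal + 1 = dimQ k (l ⟨i, by omega⟩).asIdeal :=
        dimQ_add_one_of_covBy k (hsat ⟨i, by omega⟩)
      omega
  exact key l.length (Nat.lt_succ_self _)

theorem dimQ_bot [IsDomain A] : dimQ k (⊥ : Ideal A) = trdegNat k A := by
  have h := ringKrullDim_quotient_prime k (⊥ : Ideal A)
  rw [ringKrullDim_eq_of_ringEquiv (RingEquiv.quotientBot A), ringKrullDim_eq_trdegNat k] at h
  exact_mod_cast h.symm

theorem height_add_dimQ [IsDomain A] (P : Ideal A) [P.IsPrime] :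
    P.height + (dimQ k P : ℕ∞) = (trdegNat k A : ℕ∞) := by
  refine le_antisymm ?_ ?_
  · have hle : P.height ≤ ((trdegNat k A - dimQ k P : ℕ) : ℕ∞) := by
      rw [PrimeSpectrum.height_eq_orderHeight ⟨P, inferInstance⟩]
      refine Order.height_le fun l hl => ?_
      have h1 := length_add_dimQ_le k l
      have h2 : dimQ k l.head.asIdeal ≤ dimQ k (⊥ : Ideal A) := dimQ_anti k bot_le
      rw [hl, dimQ_bot] at *
      have h1' : l.length + dimQ k P ≤ dimQ k l.head.asIdeal := h1
      exact_mod_cast (by omega : l.length ≤ trdegNat k A - dimQ k P)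
    refine (add_le_add hle le_rfl).trans ?_
    have : dimQ k P ≤ trdegNat k A := dimQ_bot (k := k) (A := A) ▸ dimQ_anti k bot_le
    exact_mod_cast (by omega : trdegNat k A - dimQ k P + dimQ k P ≤ trdegNat k A)
  · suffices H : ∀ (d : ℕ) (P : PrimeSpectrum A), trdegNat k A ≤ dimQ k P.asIdeal + d →
        (trdegNat k A : ℕ∞) ≤ P.asIdeal.height + (dimQ k P.asIdeal : ℕ∞) from
      H (trdegNat k A) ⟨P, inferInstance⟩ (by simp)
    intro d
    induction d with
    | zero =>
      intro P hP
      exact le_add_of_nonneg_of_le zero_le (by exact_mod_cast hP)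
    | succ d ih =>
      intro P hP
      classical
      by_cases h0 : P.asIdeal = ⊥
      · rw [h0, dimQ_bot]; exact le_add_self
      have hex : ∃ m : ℕ, ∃ Q : PrimeSpectrum A, Q < P ∧ dimQ k Q.asIdeal = m :=
        ⟨_, ⟨⊥, Ideal.isPrime_bot⟩, (bot_lt_iff_ne_bot.mpr h0 : ⊥ < P.asIdeal), rfl⟩
      obtain ⟨Q, hQ, hQm⟩ := Nat.find_spec hex
      have hcov : Q ⋖ P := by
        refine ⟨hQ, fun R hQR hRP => ?_⟩
        have := dimQ_lt_of_lt k (P := Q.asIdeal) (Q := R.asIdeal) hQR
        exact Nat.find_min hex (m := dimQ k R.asIdeal) (by omega) ⟨R, hRP, rfl⟩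
      have hd := dimQ_add_one_of_covBy k hcov
      have h := ih Q (by omega)
      have hh : Q.asIdeal.height + 1 ≤ P.asIdeal.height :=
        Ideal.height_add_one_le_of_lt_of_isPrime hQ
      refine h.trans ?_
      rw [← hd, Nat.cast_add, Nat.cast_one, ← add_assoc, add_right_comm]
      exact add_le_add hh le_rfl

end Groth.Agent.Lib.Dim.Basic
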