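import Groth.Agent.Lib.Dim.Local
import Groth.Prelude.Def_Flat
import Mathlib.RingTheory.Spectrum.Prime.Topology
import Mathlib.RingTheory.Localization.Away.Basic
import Mathlib.Topology.KrullDimension

/-!
# `FlatMor.localDim` of an affine scheme of finite type over a field
-/

set_option autoImplicit false

universe u v

namespace Groth.Agent.Lib.Dim.LocalDim

open Groth.Agent.Lib.Dim.Basic Groth.Agent.Lib.Dim.Local

theorem topologicalKrullDim_basicOpen {R : Type v} [CommRing R] (g : R) :
    topologicalKrullDim (PrimeSpectrum.basicOpen g : Set (PrimeSpectrum R)) =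
      ringKrullDim (Localization.Away g) := by
  rw [← PrimeSpectrum.topologicalKrullDim_eq_ringKrullDim]
  have h := PrimeSpectrum.localization_away_isOpenEmbedding (Localization.Away g) g
  have e := h.isEmbedding.toHomeomorph.trans (Homeomorph.setCongr
    (PrimeSpectrum.localization_away_comap_range (Localization.Away g) g))
  exact (IsHomeomorph.topologicalKrullDim_eq _ e.isHomeomorph).symm

/-- The local dimension at a point of an affine scheme through basic opens. -/
theorem localDim_eq_iInf {R : Type v} [CommRing R] (p : PrimeSpectrum R) :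
    FlatMor.localDim (PrimeSpectrum R) p =
      ⨅ g : {g : R // g ∉ p.asIdeal}, ringKrullDim (Localization.Away (g : R)) := by
  refine le_antisymm (le_iInf fun g => ?_) (le_iInf fun U => ?_)
  · rw [← topologicalKrullDim_basicOpen]
    exact iInf_le (fun U : {U : TopologicalSpace.Opens (PrimeSpectrum R) // p ∈ U} =>
      topologicalKrullDim (U.1 : Set (PrimeSpectrum R))) ⟨PrimeSpectrum.basicOpen g.1, g.2⟩
  · obtain ⟨_, ⟨g, rfl⟩, hpg, hgU⟩ :=
      PrimeSpectrum.isTopologicalBasis_basic_opens.exists_subset_of_mem_open U.2 U.1.2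
    refine iInf_le_of_le ⟨g, hpg⟩ ?_
    rw [← topologicalKrullDim_basicOpen]
    exact (Topology.IsEmbedding.inclusion hgU).isInducing.topologicalKrullDim_le

variable (k : Type u) [Field k] {A : Type v} [CommRing A] [Algebra k A] [Algebra.FiniteType k A]

theorem exists_notMem_ringKrullDim_away_le (P : Ideal A) [P.IsPrime] :
    ∃ g : A, g ∉ P ∧ (∀ q ∈ minimalPrimes A, g ∉ q → q ≤ P) ∧
      ringKrullDim (Localization.Away g) ≤ (dimAt k P : WithBot ℕ∞) := by
  classical
  have := isNoetherianRing_of_field k (A := A)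
  have hfin := minimalPrimes.finite_of_isNoetherianRing A
  let s := hfin.toFinset.filter (fun q => ¬ q ≤ P)
  have hnot : ¬ s.inf id ≤ P := by
    intro h
    obtain ⟨q, hq, hqP⟩ := (Ideal.IsPrime.inf_le' ‹P.IsPrime›).mp h
    exact (Finset.mem_filter.mp hq).2 hqP
  obtain ⟨g, hg, hgP⟩ := SetLike.not_le_iff_exists.mp hnot
  have hsep : ∀ q ∈ minimalPrimes A, g ∉ q → q ≤ P := fun q hq hgq => by
    by_contra hle
    exact hgq (Finset.inf_le (f := id)
      (Finset.mem_filter.mpr ⟨hfin.mem_toFinset.mpr hq, hle⟩) hg)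
  refine ⟨g, hgP, hsep, ?_⟩
  rw [ringKrullDim_le_iff_isMaximal_height_le]
  intro M hM
  rw [← IsLocalization.height_under (Submonoid.powers g) M]
  have hgM : g ∉ M.under A := fun h =>
    hM.ne_top (Ideal.eq_top_of_isUnit_mem _ h (IsLocalization.Away.algebraMap_isUnit g))
  have h1 : (M.under A).height ≤ (dimAt k (M.under A) : ℕ∞) := by
    rw [coe_dimAt]; exact le_self_add
  have h2 : dimAt k (M.under A) ≤ dimAt k P := by
    rw [dimAt_le_iff]
    intro q hq hle
    have : q.IsPrime := hq.1.1
    exact dimQ_le_dimAt_of_le k (hsep q hq fun hgq => hgM (hle hgq))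
  exact_mod_cast h1.trans (Nat.cast_le.mpr h2)

theorem le_ringKrullDim_away (P : Ideal A) [P.IsPrime] {g : A} (hg : g ∉ P) :
    (dimAt k P : WithBot ℕ∞) ≤ ringKrullDim (Localization.Away g) := by
  obtain ⟨m, hm, hPm, hgm⟩ := exists_isMaximal_ge_notMem k P hg
  have hd : Disjoint (Submonoid.powers g : Set A) m :=
    (Ideal.disjoint_powers_iff_notMem g (Ideal.IsPrime.isRadical hm.isPrime')).mpr hgm
  have hpm : (m.map (algebraMap A (Localization.Away g))).IsPrime :=
    IsLocalization.isPrime_of_isPrime_disjoint (Submonoid.powers g) _ m hm.isPrime' hd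
  have h1 := Ideal.height_le_ringKrullDim_of_isPrime (I := m.map (algebraMap A (Localization.Away g)))
  rw [IsLocalization.height_map_of_disjoint (Submonoid.powers g) m hd,
    height_maximal_eq_dimAt k m] at h1
  refine le_trans ?_ h1
  exact_mod_cast dimAt_mono k hPm

theorem localDim_eq_dimAt (P : Ideal A) [P.IsPrime] :
    FlatMor.localDim (PrimeSpectrum A) ⟨P, inferInstance⟩ = (dimAt k P : WithBot ℕ∞) := by
  rw [localDim_eq_iInf]
  obtain ⟨g, hg, -, hle⟩ := exists_notMem_ringKrullDim_away_le k P
  exact le_antisymm (iInf_le_of_le ⟨g, hg⟩ hle) (le_iInf fun g => le_ringKrullDim_away k P g.2)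

end Groth.Agent.Lib.Dim.LocalDim
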