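import Groth.Agent.Lib.Dim.Local
import Mathlib.RingTheory.TensorProduct.MvPolynomial
import Mathlib.LinearAlgebra.TensorProduct.Pi
import Mathlib.RingTheory.Flat.Basic
import Mathlib.RingTheory.Flat.Stability
import Mathlib.RingTheory.Ideal.MinimalPrime.Localization
import Mathlib.RingTheory.Ideal.GoingDown
import Mathlib.RingTheory.FiniteStability

/-!
# Dimension and field extension
-/

set_option autoImplicit false

universe u

open scoped TensorProduct

namespace Groth.Agent.Lib.Dim.FieldExt

open Groth.Agent.Lib.Dim.Basic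

variable {k K : Type u} [Field k] [Field K] [Algebra k K]

/-- A finite torsion-free module over a domain embeds in a finite free module. -/
theorem exists_injective_pi (R M : Type u) [CommRing R] [IsDomain R] [AddCommGroup M]
    [Module R M] [Module.Finite R M] [Module.IsTorsionFree R M] :
    ∃ (n : ℕ) (f : M →ₗ[R] (Fin n → R)), Function.Injective f := by
  classical
  obtain ⟨m, g, hg⟩ := Module.Finite.exists_fin (R := R) (M := M)
  obtain ⟨s, hs, hmax⟩ := exists_maximal_linearIndepOn R g
  choose! a ha0 ha using hmax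
  let c : R := ∏ i ∈ (Finset.univ.filter (· ∉ s)), a i
  have hc : c ≠ 0 := Finset.prod_ne_zero_iff.mpr fun i hi => ha0 i (Finset.mem_filter.mp hi).2
  set F := Submodule.span R (g '' s) with hF
  have hmem : ∀ x : M, c • x ∈ F := by
    intro x
    have hx : x ∈ Submodule.span R (Set.range g) := hg ▸ Submodule.mem_top
    induction hx using Submodule.span_induction with
    | mem y hy =>
      obtain ⟨i, rfl⟩ := hy
      by_cases hi : i ∈ s
      · exact F.smul_mem _ (Submodule.subset_span ⟨i, hi, rfl⟩)
      · have hdvd : a i ∣ c := Finset.dvd_prod_of_mem a (by simp [hi])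
        obtain ⟨d, hd⟩ := hdvd
        rw [hd, mul_comm, mul_smul]
        exact F.smul_mem _ (ha i hi)
    | zero => simp
    | add y z _ _ hy hz => rw [smul_add]; exact F.add_mem hy hz
    | smul r y _ hy => rw [smul_comm]; exact F.smul_mem _ hy
  have hrange : Set.range (fun i : s => g i) = g '' s := by ext; simp
  let b : Module.Basis s R (Submodule.span R (Set.range fun i : s => g i)) := Module.Basis.span hs
  let b' := b.reindex (Fintype.equivFin s)
  let l : M →ₗ[R] Submodule.span R (Set.range fun i : s => g i) :=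
    (LinearMap.lsmul R M c).codRestrict _ fun x => hrange ▸ hmem x
  refine ⟨_, b'.equivFun.toLinearMap ∘ₗ l, b'.equivFun.injective.comp fun x y h => ?_⟩
  exact smul_right_injective M hc (Subtype.ext_iff.mp h)

/-- Noether normalisation survives a field extension: nonzero elements stay regular. -/
theorem baseChange_regular (D : Type u) [CommRing D] [IsDomain D] [Algebra k D] {s : ℕ}
    (g : MvPolynomial (Fin s) k →ₐ[k] D) (hg : Function.Injective g) (hfin : g.Finite)
    (a : K ⊗[k] MvPolynomial (Fin s) k) (ha : a ≠ 0) (y : K ⊗[k] D)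
    (hy : Algebra.TensorProduct.map (AlgHom.id K K) g a * y = 0) : y = 0 := by
  let := g.toRingHom.toAlgebra
  have : IsScalarTower k (MvPolynomial (Fin s) k) D :=
    IsScalarTower.of_algebraMap_eq fun x => (g.commutes x).symm
  have : Module.Finite (MvPolynomial (Fin s) k) D := hfin
  have : FaithfulSMul (MvPolynomial (Fin s) k) D :=
    (faithfulSMul_iff_algebraMap_injective _ _).mpr hg
  obtain ⟨n, f, hf⟩ := exists_injective_pi (MvPolynomial (Fin s) k) D
  let h : Fin n → (D →ₗ[k] MvPolynomial (Fin s) k) := fun i =>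
    ((LinearMap.proj i).comp f).restrictScalars k
  let H : Fin n → (K ⊗[k] D →ₗ[k] K ⊗[k] MvPolynomial (Fin s) k) := fun i => (h i).lTensor K
  have hmul : ∀ i z w, H i (Algebra.TensorProduct.map (AlgHom.id K K) g z * w) = z * H i w := by
    intro i z w
    induction z using TensorProduct.induction_on with
    | zero => simp
    | add z z' hz hz' => simp [map_add, add_mul, hz, hz']
    | tmul c p =>
      induction w using TensorProduct.induction_on with
      | zero => simp
      | add w w' hw hw' => simp only [mul_add, map_add, hw, hw']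
      | tmul e d =>
        have : g p * d = p • d := (Algebra.smul_def p d).symm
        simp [H, h, this]
  have := (MvPolynomial.algebraTensorAlgEquiv k K (σ := Fin s)).injective.isDomain
    (MvPolynomial.algebraTensorAlgEquiv k K (σ := Fin s)).toRingHom
  have hz : ∀ i, H i y = 0 := fun i => by
    have := hmul i a y
    rw [hy, map_zero] at this
    exact (mul_eq_zero.mp this.symm).resolve_left ha
  apply Module.Flat.lTensor_preserves_injective_linearMap (M := K) (f.restrictScalars k) hf
  rw [map_zero]
  apply (TensorProduct.piRight k k K fun _ : Fin n => MvPolynomial (Fin s) k).injective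
  rw [map_zero]
  ext1 i
  have key : ∀ w, TensorProduct.piRight k k K (fun _ : Fin n => MvPolynomial (Fin s) k)
      ((f.restrictScalars k).lTensor K w) i = H i w := by
    intro w
    induction w using TensorProduct.induction_on with
    | zero => simp
    | add w w' hw hw' => simp only [map_add, Pi.add_apply, hw, hw']
    | tmul e d => simp [H, h]
  rw [key, hz]
  rfl

/-- Every minimal prime of `K ⊗ D`, `D` a finite type domain, has the dimension of `D`. -/
theorem dimQ_minimalPrimes_baseChange (D : Type u) [CommRing D] [IsDomain D] [Algebra k D]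
    [Algebra.FiniteType k D] (Q : Ideal (K ⊗[k] D)) (hQ : Q ∈ minimalPrimes (K ⊗[k] D)) :
    dimQ K Q = trdegNat k D := by
  obtain ⟨s, g, hg, hfin, htr, -⟩ := exists_noether k D
  have hQp : Q.IsPrime := hQ.1.1
  let G : K ⊗[k] MvPolynomial (Fin s) k →ₐ[K] K ⊗[k] D :=
    Algebra.TensorProduct.map (AlgHom.id K K) g
  have hker : Q.comap G.toRingHom = ⊥ := by
    rw [eq_bot_iff]
    intro a ha
    by_contra h0
    refine Set.disjoint_left.mp (Ideal.disjoint_nonZeroDivisors_of_mem_minimalPrimes hQ)
      (show G a ∈ Q from ha) ?_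
    rw [SetLike.mem_coe, mem_nonZeroDivisors_iff]
    exact ⟨fun y hy => baseChange_regular D g hg hfin a h0 y hy,
      fun y hy => baseChange_regular D g hg hfin a h0 y (by rw [mul_comm]; exact hy)⟩
  let := G.toRingHom.toAlgebra
  have : Algebra.IsIntegral (K ⊗[k] MvPolynomial (Fin s) k) (K ⊗[k] D) := by
    refine ⟨fun x => ?_⟩
    induction x using TensorProduct.induction_on with
    | zero => exact isIntegral_zero
    | add x y hx hy => exact hx.add hy
    | tmul c d =>
      rw [show c ⊗ₜ[k] d = (c ⊗ₜ[k] (1 : D)) * ((1 : K) ⊗ₜ[k] d) by simp]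
      refine IsIntegral.mul ?_ ?_
      · rw [show c ⊗ₜ[k] (1 : D) = G (c ⊗ₜ[k] 1) by simp [G]]
        exact isIntegral_algebraMap
      · obtain ⟨p, hp, hpe⟩ := (RingHom.IsIntegral.of_finite hfin) d
        refine ⟨p.map Algebra.TensorProduct.includeRight.toRingHom, hp.map _, ?_⟩
        rw [Polynomial.eval₂_map]
        have hc : (algebraMap (K ⊗[k] MvPolynomial (Fin s) k) (K ⊗[k] D)).comp
            Algebra.TensorProduct.includeRight.toRingHom =
            (Algebra.TensorProduct.includeRight (R := k) (A := K) (B := D)).toRingHom.comp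
              g.toRingHom := by
          exact RingHom.ext fun q => by simp [G, RingHom.algebraMap_toAlgebra]
        rw [hc]
        have := congrArg (Algebra.TensorProduct.includeRight (R := k) (A := K) (B := D)).toRingHom hpe
        rwa [Polynomial.hom_eval₂, map_zero] at this
  have h1 := Groth.Agent.Lib.Dim.Integral.ringKrullDim_quotient_eq_under
    (R := K ⊗[k] MvPolynomial (Fin s) k) Q
  have hu : Q.under (K ⊗[k] MvPolynomial (Fin s) k) = ⊥ := hker
  have e1 : ringKrullDim ((K ⊗[k] MvPolynomial (Fin s) k) ⧸ Q.under (K ⊗[k] MvPolynomial (Fin s) k)) =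
      ringKrullDim (K ⊗[k] MvPolynomial (Fin s) k) :=
    ringKrullDim_eq_of_ringEquiv ((Ideal.quotEquivOfEq hu).trans (RingEquiv.quotientBot _))
  have e2 : ringKrullDim (K ⊗[k] MvPolynomial (Fin s) k) = (s : WithBot ℕ∞) :=
    (ringKrullDim_eq_of_ringEquiv (MvPolynomial.algebraTensorAlgEquiv k K).toRingEquiv).trans
      (by rw [ringKrullDim_mvPolynomial K (Fin s), Nat.card_fin])
  rw [e1, e2, ringKrullDim_quotient_prime K] at h1
  have h2 : dimQ K Q = s := by exact_mod_cast h1
  simp [h2, trdegNat, htr]

open Groth.Agent.Lib.Dim.Local in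
/-- The local dimension is invariant under field extension. -/
theorem dimAt_baseChange (S : Type u) [CommRing S] [Algebra k S] [Algebra.FiniteType k S]
    (P : Ideal (K ⊗[k] S)) [P.IsPrime] :
    dimAt K P = dimAt k (P.comap
      (Algebra.TensorProduct.includeRight (R := k) (A := K) (B := S)).toRingHom) := by
  let alg : Algebra S (K ⊗[k] S) := Algebra.TensorProduct.rightAlgebra
  have hflat : Module.Flat S (K ⊗[k] S) :=
    Module.Flat.of_linearEquiv
      ((AlgEquiv.ofRingEquiv (f := (Algebra.TensorProduct.comm k K S).toRingEquiv)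
        (fun x => by simp [RingHom.algebraMap_toAlgebra])).toLinearEquiv : K ⊗[k] S ≃ₗ[S] S ⊗[k] K)
  set p := P.comap (Algebra.TensorProduct.includeRight (R := k) (A := K) (B := S)).toRingHom with hp
  -- for a minimal prime `Q`, the contraction `q` is minimal and `dimQ` agrees
  have key : ∀ Q ∈ minimalPrimes (K ⊗[k] S),
      Q.under S ∈ minimalPrimes S ∧ dimQ K Q = dimQ k (Q.under S) := by
    intro Q hQ
    have hQp : Q.IsPrime := hQ.1.1
    have hmin : Q.under S ∈ minimalPrimes S := by
      refine ⟨⟨inferInstance, bot_le⟩, fun q hq hle => ?_⟩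
      have hqp : q.IsPrime := hq.1
      obtain ⟨Q', hQ'le, hQ'p, hQ'o⟩ := Ideal.exists_ideal_le_liesOver_of_le (S := K ⊗[k] S) Q hle
      have : Q ≤ Q' := hQ.2 ⟨hQ'p, bot_le⟩ hQ'le
      rw [hQ'o.over]
      exact Ideal.comap_mono this
    refine ⟨hmin, ?_⟩
    set q := Q.under S with hq
    let π : K ⊗[k] S →ₐ[K] K ⊗[k] (S ⧸ q) :=
      Algebra.TensorProduct.map (AlgHom.id K K) (Ideal.Quotient.mkₐ k q)
    have hπ : Function.Surjective π :=
      LinearMap.lTensor_surjective K (g := (Ideal.Quotient.mkₐ k q).toLinearMap) Ideal.Quotient.mk_surjective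
    have hkerπ : RingHom.ker π ≤ Q := by
      refine le_of_eq_of_le (b := (RingHom.ker (Ideal.Quotient.mkₐ k q)).map
        (Algebra.TensorProduct.includeRight (R := k) (A := K) (B := S)))
        (Algebra.TensorProduct.lTensor_ker (Ideal.Quotient.mkₐ k q) Ideal.Quotient.mk_surjective) ?_
      refine Ideal.map_le_iff_le_comap.mpr fun x hx => ?_
      exact Ideal.mem_comap.mp (show x ∈ q from Ideal.Quotient.eq_zero_iff_mem.mp (RingHom.mem_ker.mp hx))
    have hQ'min : Q.map π.toRingHom ∈ minimalPrimes (K ⊗[k] (S ⧸ q)) := by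
      have hmp : (Q.map π.toRingHom).IsPrime := Ideal.map_isPrime_of_surjective hπ hkerπ
      refine ⟨⟨hmp, bot_le⟩, fun R hR hle => ?_⟩
      have : R.IsPrime := hR.1
      have h1 : R.comap π.toRingHom ≤ Q := by
        refine (Ideal.comap_mono hle).trans ?_
        rw [Ideal.comap_map_of_surjective π.toRingHom hπ]
        exact sup_le le_rfl hkerπ
      refine Ideal.map_le_iff_le_comap.mpr (hQ.2 ⟨inferInstance, bot_le⟩ h1)
    have h2 := dimQ_minimalPrimes_baseChange (S ⧸ q) _ hQ'min
    rw [show trdegNat k (S ⧸ q) = dimQ k q from rfl] at h2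
    rw [← h2]
    have he : ringKrullDim ((K ⊗[k] S) ⧸ Q) =
        ringKrullDim ((K ⊗[k] (S ⧸ q)) ⧸ Q.map π.toRingHom) := by
      refine ringKrullDim_eq_of_ringEquiv (((Ideal.quotEquivOfEq ?_).trans
        (RingHom.quotientKerEquivOfSurjective
          (f := (Ideal.Quotient.mk (Q.map π.toRingHom)).comp π.toRingHom)
          (Ideal.Quotient.mk_surjective.comp hπ))))
      rw [← RingHom.comap_ker, Ideal.mk_ker, Ideal.comap_map_of_surjective π.toRingHom hπ]
      exact (sup_eq_left.mpr hkerπ).symm
    have hmp : (Q.map π.toRingHom).IsPrime := hQ'min.1.1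
    rw [ringKrullDim_quotient_prime K, ringKrullDim_quotient_prime K] at he
    exact_mod_cast he
  refine le_antisymm ((dimAt_le_iff K P _).mpr fun Q hQ hle => ?_)
    ((dimAt_le_iff k p _).mpr fun q hq hle => ?_)
  · have : Q.IsPrime := hQ.1.1
    rw [(key Q hQ).2]
    exact dimQ_le_dimAt_of_le k (Ideal.comap_mono hle)
  · have hqp : q.IsPrime := hq.1.1
    have : P.LiesOver p := ⟨rfl⟩
    obtain ⟨Q', hQ'le, hQ'p, hQ'o⟩ := Ideal.exists_ideal_le_liesOver_of_le (S := K ⊗[k] S) P hle
    obtain ⟨Q, hQ, hQle⟩ := Ideal.exists_minimalPrimes_le (bot_le (a := Q'))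
    have : Q.IsPrime := hQ.1.1
    have h1 : Q.under S = q := by
      have hsub : Q.under S ≤ q := hQ'o.over ▸ Ideal.comap_mono hQle
      exact le_antisymm hsub (hq.2 ⟨inferInstance, bot_le⟩ hsub)
    rw [← h1, ← (key Q hQ).2]
    exact dimQ_le_dimAt_of_le K (hQle.trans hQ'le)

end Groth.Agent.Lib.Dim.FieldExt
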